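import Cfsg.Agent.Lib.Helper4.Orb.HS.Cfg

set_option autoImplicit false
set_option linter.style.haveILetI false
set_option linter.unusedVariables false
set_option linter.unusedSectionVars false

/-! A signed permutation exchanging the two anchors (generated data). -/

namespace Cfsg.Agent.Helper4.CO.HS

open Cfsg Cfsg.Agent.Helper4.CO

/-- matrix -/
def swM : List (List ℤ) := monoMat [1, 0, 15, 3, 8, 22, 18, 19, 9, 11, 16, 10, 2, 7, 21, 14, 4, 12, 20, 13, 6, 17, 5, 23] [-1, -1, -1, -1, -1, -1, -1, -1, -1, -1, -1, -1, -1, -1, -1, -1, -1, -1, -1, -1, -1, -1, -1, -1]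

set_option maxRecDepth 1000000 in
theorem swM_good : GoodMat swM := by decide +kernel

theorem swM_01 : actL swM anc0 = anc1 := by decide +kernel

theorem swM_10 : actL swM anc1 = anc0 := by decide +kernel

end Cfsg.Agent.Helper4.CO.HS
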