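import Cfsg.Agent.Lib.Helper4.Orb.HS.Main
import Cfsg.Agent.Lib.Helper4.Orb.HS.InvolData
import Cfsg.Agent.Lib.Helper4.Orb.HS.SwapData
import Cfsg.Agent.Lib.Helper4.CoInvol

set_option autoImplicit false
set_option linter.style.haveILetI false
set_option linter.unusedVariables false
set_option linter.unusedSectionVars false

/-! The Higman–Sims configuration: an automorphism exchanging the two vectors, and an involution
of the joint stabiliser without fixed point among the 100 vectors. -/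

namespace Cfsg.Agent.Helper4.CO.HS

open Cfsg Cfsg.Agent.Lib.Helper28 Cfsg.Agent.Helper4.CO

theorem listH : ∀ x ∈ statSet 32 anc0 anc1 anc2 (24, -24, 0),
    ∃ X ∈ (chunksH.flatMap fun ch => ch.2), (x : GolayPt → ℤ) = toV (unpack X) :=
  orbit_list anchors gens gensOK startH startH_in (by decide) _
    (mem_statSet_mkL 32 anc0 anc1 anc2 (24, -24, 0) anc0_in.1 anc1_in.1 anc2_in.1 startH startH_in
      (by decide) (by decide))
    (statSet_inv 32 anc0 anc1 anc2 (24, -24, 0) anc0_in anc1_in anc2_in) chunksH chunksH_ok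
    chunksH_nd ncardH (Set.finite_of_ncard_ne_zero (by rw [ncardH, chunksH_len]; norm_num))

set_option maxRecDepth 1000000 in
theorem nofixH : noFixW [ihA, ihB] inM (chunksH.flatMap fun ch => ch.2) = true := by
  decide +kernel

/-- the list of keys of the 100 vectors -/
def keysH : List ℕ := chunksH.flatMap fun ch => ch.2

theorem nofixH' : noFixW [ihA, ihB] inM keysH = true := nofixH

theorem exists_invol_base : ∃ t : Co0, (∀ a ∈ [anc0, anc1], FixL t a) ∧ t * t = 1 ∧
    ∀ x ∈ statSet 32 anc0 anc1 anc2 (24, -24, 0), t • x ≠ x := by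
  obtain ⟨t, h1, h2, h3⟩ := exists_invol [anc0, anc1]
    (by
      intro a ha
      simp only [List.mem_cons, List.not_mem_nil, or_false] at ha
      rcases ha with rfl | rfl
      · exact anc0_in.1
      · exact anc1_in.1)
    [ihA, ihB]
    (by
      intro B hB
      simp only [List.mem_cons, List.not_mem_nil, or_false] at hB
      rcases hB with rfl | rfl
      · exact ihA_good
      · exact ihB_good)
    inM inM_good inM_symm
    (by
      intro a ha
      simp only [List.mem_cons, List.not_mem_nil, or_false] at ha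
      rcases ha with rfl | rfl
      · exact inM_fix0
      · exact inM_fix1)
    keysH nofixH'
  refine ⟨t, h1, h2, ?_⟩
  intro x hx
  obtain ⟨X, hX, hxX⟩ := listH x hx
  exact h3 X hX x hxX

theorem exists_swap_base : ∃ g : Co0, ∀ x y : leechLattice,
    (x : GolayPt → ℤ) = toV anc0 → (y : GolayPt → ℤ) = toV anc1 → g • x = y ∧ g • y = x := by
  refine ⟨matCo0 swM swM_good, fun x y hx hy => ⟨?_, ?_⟩⟩
  · apply Subtype.ext
    rw [matCo0_smul, hx, ← toV_actL swM_good.1 anc0 anc0_in.1, swM_01, hy]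
  · apply Subtype.ext
    rw [matCo0_smul, hy, ← toV_actL swM_good.1 anc1 anc1_in.1, swM_10, hx]

theorem swap (v w : leechLattice) (hv : sqNorm (v : GolayPt → ℤ) = 48)
    (hw : sqNorm (w : GolayPt → ℤ) = 48)
    (hvw : dotInt (v : GolayPt → ℤ) (w : GolayPt → ℤ) = -32) :
    ∃ g : Co0, g • v = w ∧ g • w = v := by
  obtain ⟨h, hb⟩ := exists_based v w hv hw hvw
  obtain ⟨g, hg⟩ := exists_swap_base
  obtain ⟨h1, h2⟩ := hg (h • v) (h • w) hb.1 hb.2.1
  refine ⟨h⁻¹ * g * h, ?_, ?_⟩
  · rw [mul_smul, mul_smul, h1, inv_smul_smul]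
  · rw [mul_smul, mul_smul, h2, inv_smul_smul]

theorem invol (v w : leechLattice) (hv : sqNorm (v : GolayPt → ℤ) = 48)
    (hw : sqNorm (w : GolayPt → ℤ) = 48)
    (hvw : dotInt (v : GolayPt → ℤ) (w : GolayPt → ℤ) = -32) :
    ∃ g : Co0, g • v = v ∧ g • w = w ∧ orderOf g = 2 ∧
      ∀ x ∈ dotSet 32 v w 0 (24, -24, 0), g • x ≠ x := by
  obtain ⟨h, hb⟩ := exists_based v w hv hw hvw
  obtain ⟨t, ht1, ht2, ht3⟩ := exists_invol_base
  have hmove : ∀ x ∈ dotSet 32 v w 0 (24, -24, 0), (h⁻¹ * t * h) • x ≠ x := by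
    intro x hx hfix
    apply ht3 (h • x) (hb.mem hx)
    rw [mul_smul, mul_smul, inv_smul_eq_iff] at hfix
    exact hfix
  refine ⟨h⁻¹ * t * h, ?_, ?_, ?_, hmove⟩
  · rw [mul_smul, mul_smul, ht1 anc0 (by simp) (h • v) hb.1, inv_smul_smul]
  · rw [mul_smul, mul_smul, ht1 anc1 (by simp) (h • w) hb.2.1, inv_smul_smul]
  · have hsq : (h⁻¹ * t * h) ^ 2 = 1 := by
      rw [pow_two]
      calc h⁻¹ * t * h * (h⁻¹ * t * h) = h⁻¹ * (t * t) * h := by group
        _ = 1 := by rw [ht2]; group
    have hne : h⁻¹ * t * h ≠ 1 := by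
      intro h1
      obtain ⟨x, hx⟩ := Set.nonempty_of_ncard_ne_zero (by rw [card_H v w hv hw hvw]; norm_num :
        (dotSet 32 v w 0 (24, -24, 0)).ncard ≠ 0)
      apply hmove x hx
      rw [h1, one_smul]
    haveI : Fact (Nat.Prime 2) := ⟨Nat.prime_two⟩
    exact orderOf_eq_prime hsq hne

end Cfsg.Agent.Helper4.CO.HS
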