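import Cfsg.Agent.Lib.Helper4.Orb.HS.Trans
import Cfsg.Agent.Lib.Helper4.Orb.C3.Main

set_option autoImplicit false
set_option linter.style.haveILetI false
set_option linter.unusedVariables false
set_option linter.unusedSectionVars false

/-! The joint stabiliser of two vectors `v, w` of sum of squares 48 with inner product `-32`:
the 100 minimal vectors, and the orbits on the 11178 minimal vectors attached to `v`. -/

namespace Cfsg.Agent.Helper4.CO.HS

open Cfsg Cfsg.Agent.Lib.Helper28 Cfsg.Agent.Helper4.CO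

theorem anc0_eq : anc0 = C3.anc0 := by decide

theorem anc2_eq : anc2 = zeroL := by decide

/-- minus the sum of the two anchors -/
def x0L : List ℤ := [-4, 4, 0, 0, 0, 0, 0, 0, 0, 0, 0, 0, 0, 0, 0, 0, 0, 0, 0, 0, 0, 0, 0, 0]

theorem x0L_in : InLP x0L := by decide +kernel

theorem x0_mem : mkL x0L x0L_in ∈ statSet 32 C3.anc0 C3.anc1 C3.anc2 (-16, 0, 0) :=
  mem_statSet_mkL 32 C3.anc0 C3.anc1 C3.anc2 (-16, 0, 0) C3.anc0_in.1 C3.anc1_in.1 C3.anc2_in.1
    x0L x0L_in (by decide) (by decide)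

theorem anc1_rel : toV anc1 = -(toV C3.anc0 + toV x0L) := by
  apply ext_pt
  intro a
  simp only [Pi.neg_apply, Pi.add_apply, toV_pt]
  revert a
  decide

/-- the third vector of the triangle -/
theorem neg_add_mem (v w : leechLattice) (hv : sqNorm (v : GolayPt → ℤ) = 48)
    (hw : sqNorm (w : GolayPt → ℤ) = 48)
    (hvw : dotInt (v : GolayPt → ℤ) (w : GolayPt → ℤ) = -32) :
    -(v + w) ∈ dotSet 32 v 0 0 (-16, 0, 0) := by
  rw [mem_dotSet_zero23]
  have e : ((-(v + w) : leechLattice) : GolayPt → ℤ) =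
      -((v : GolayPt → ℤ) + (w : GolayPt → ℤ)) := rfl
  constructor
  · rw [e, sqNorm_neg', sqNorm_add, hv, hw, hvw]; norm_num
  · rw [e, dotInt_neg_right, dotInt_add_right, dotInt_self', hv, hvw]; norm_num

theorem exists_based (v w : leechLattice) (hv : sqNorm (v : GolayPt → ℤ) = 48)
    (hw : sqNorm (w : GolayPt → ℤ) = 48)
    (hvw : dotInt (v : GolayPt → ℤ) (w : GolayPt → ℤ) = -32) :
    ∃ h : Co0, Based h v w 0 anc0 anc1 anc2 := by
  obtain ⟨h, hb⟩ := C3.exists_based v hv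
  obtain ⟨h', hb'⟩ := hb.extend2 C3.transQ x0L x0L_in x0_mem (toV_zero_of_eq anc2_eq)
    (neg_add_mem v w hv hw hvw)
  refine ⟨h', ?_, ?_, hb'.2.2⟩
  · rw [anc0_eq]; exact hb'.1
  · have hw' : w = -(v + -(v + w)) := by abel
    have h1 : ((h' • w : leechLattice) : GolayPt → ℤ) =
        -(((h' • v : leechLattice) : GolayPt → ℤ) +
          ((h' • (-(v + w)) : leechLattice) : GolayPt → ℤ)) := by
      conv_lhs => rw [hw']
      rw [coe_smul_neg, coe_smul_add]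
    rw [h1, hb'.1, hb'.2.1, anc1_rel]

theorem card_H (v w : leechLattice) (hv : sqNorm (v : GolayPt → ℤ) = 48)
    (hw : sqNorm (w : GolayPt → ℤ) = 48)
    (hvw : dotInt (v : GolayPt → ℤ) (w : GolayPt → ℤ) = -32) :
    (dotSet 32 v w 0 (24, -24, 0)).ncard = 100 := by
  obtain ⟨h, hb⟩ := exists_based v w hv hw hvw
  rw [hb.ncard anc0_in.1 anc1_in.1 anc2_in.1, countH]

theorem card_I (v w : leechLattice) (hv : sqNorm (v : GolayPt → ℤ) = 48)
    (hw : sqNorm (w : GolayPt → ℤ) = 48)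
    (hvw : dotInt (v : GolayPt → ℤ) (w : GolayPt → ℤ) = -32) :
    (dotSet 32 v w 0 (-16, 24, 0)).ncard = 352 := by
  obtain ⟨h, hb⟩ := exists_based v w hv hw hvw
  rw [hb.ncard anc0_in.1 anc1_in.1 anc2_in.1, countI]

theorem card_J (v w : leechLattice) (hv : sqNorm (v : GolayPt → ℤ) = 48)
    (hw : sqNorm (w : GolayPt → ℤ) = 48)
    (hvw : dotInt (v : GolayPt → ℤ) (w : GolayPt → ℤ) = -32) :
    (dotSet 32 v w 0 (-16, 0, 0)).ncard = 1100 := by
  obtain ⟨h, hb⟩ := exists_based v w hv hw hvw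
  rw [hb.ncard anc0_in.1 anc1_in.1 anc2_in.1, countJ]

theorem card_K (v w : leechLattice) (hv : sqNorm (v : GolayPt → ℤ) = 48)
    (hw : sqNorm (w : GolayPt → ℤ) = 48)
    (hvw : dotInt (v : GolayPt → ℤ) (w : GolayPt → ℤ) = -32) :
    (dotSet 32 v w 0 (-16, 16, 0)).ncard = 4125 := by
  obtain ⟨h, hb⟩ := exists_based v w hv hw hvw
  rw [hb.ncard anc0_in.1 anc1_in.1 anc2_in.1, countK]

theorem card_L (v w : leechLattice) (hv : sqNorm (v : GolayPt → ℤ) = 48)
    (hw : sqNorm (w : GolayPt → ℤ) = 48)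
    (hvw : dotInt (v : GolayPt → ℤ) (w : GolayPt → ℤ) = -32) :
    (dotSet 32 v w 0 (-16, 8, 0)).ncard = 5600 := by
  obtain ⟨h, hb⟩ := exists_based v w hv hw hvw
  rw [hb.ncard anc0_in.1 anc1_in.1 anc2_in.1, countL]

/-- transitivity on each of the five sets -/
theorem trans_of (v w : leechLattice) (hv : sqNorm (v : GolayPt → ℤ) = 48)
    (hw : sqNorm (w : GolayPt → ℤ) = 48)
    (hvw : dotInt (v : GolayPt → ℤ) (w : GolayPt → ℤ) = -32) (c : ℤ × ℤ × ℤ)
    (hc : c = (24, -24, 0) ∨ c = (-16, 24, 0) ∨ c = (-16, 0, 0) ∨ c = (-16, 16, 0) ∨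
      c = (-16, 8, 0)) {x x' : leechLattice}
    (hx : x ∈ dotSet 32 v w 0 c) (hx' : x' ∈ dotSet 32 v w 0 c) :
    ∃ g : Co0, g • v = v ∧ g • w = w ∧ g • x = x' := by
  obtain ⟨h, hb⟩ := exists_based v w hv hw hvw
  rcases hc with rfl | rfl | rfl | rfl | rfl
  · obtain ⟨g, h1, h2, _, h3⟩ := hb.trans transH hx hx'
    exact ⟨g, h1, h2, h3⟩
  · obtain ⟨g, h1, h2, _, h3⟩ := hb.trans transI hx hx'
    exact ⟨g, h1, h2, h3⟩
  · obtain ⟨g, h1, h2, _, h3⟩ := hb.trans transJ hx hx'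
    exact ⟨g, h1, h2, h3⟩
  · obtain ⟨g, h1, h2, _, h3⟩ := hb.trans transK hx hx'
    exact ⟨g, h1, h2, h3⟩
  · obtain ⟨g, h1, h2, _, h3⟩ := hb.trans transL hx hx'
    exact ⟨g, h1, h2, h3⟩

end Cfsg.Agent.Helper4.CO.HS
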