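import Cfsg.Agent.Lib.Helper4.CoOrbitCount
import Cfsg.Agent.Lib.Helper4.Orb.HS.Cfg

set_option autoImplicit false
set_option linter.style.haveILetI false
set_option linter.unusedVariables false
set_option linter.unusedSectionVars false
set_option Elab.async false

/-! A count of vectors with prescribed inner products (kernel computation). -/

namespace Cfsg.Agent.Helper4.CO.HS

open Cfsg Cfsg.Agent.Helper4.CO

set_option maxRecDepth 1000000 in
theorem countH_p : part1 anc0 anc1 anc2 (24, -24, 0) = 1 := by decide +kernel

set_option maxRecDepth 1000000 in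
theorem countH_b0 : partB anc0 anc1 anc2 (24, -24, 0) 0 = 0 := by decide +kernel

set_option maxRecDepth 1000000 in
theorem countH_b1 : partB anc0 anc1 anc2 (24, -24, 0) 1 = 0 := by decide +kernel

set_option maxRecDepth 1000000 in
theorem countH_b2 : partB anc0 anc1 anc2 (24, -24, 0) 2 = 0 := by decide +kernel

set_option maxRecDepth 1000000 in
theorem countH_b3 : partB anc0 anc1 anc2 (24, -24, 0) 3 = 0 := by decide +kernel

set_option maxRecDepth 1000000 in
theorem countH_b4 : partB anc0 anc1 anc2 (24, -24, 0) 4 = 0 := by decide +kernel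

set_option maxRecDepth 1000000 in
theorem countH_b5 : partB anc0 anc1 anc2 (24, -24, 0) 5 = 0 := by decide +kernel

set_option maxRecDepth 1000000 in
theorem countH_b6 : partB anc0 anc1 anc2 (24, -24, 0) 6 = 0 := by decide +kernel

set_option maxRecDepth 1000000 in
theorem countH_b7 : partB anc0 anc1 anc2 (24, -24, 0) 7 = 0 := by decide +kernel

set_option maxRecDepth 1000000 in
theorem countH_b8 : partB anc0 anc1 anc2 (24, -24, 0) 8 = 0 := by decide +kernel

set_option maxRecDepth 1000000 in
theorem countH_b9 : partB anc0 anc1 anc2 (24, -24, 0) 9 = 0 := by decide +kernel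

set_option maxRecDepth 1000000 in
theorem countH_b10 : partB anc0 anc1 anc2 (24, -24, 0) 10 = 0 := by decide +kernel

set_option maxRecDepth 1000000 in
theorem countH_b11 : partB anc0 anc1 anc2 (24, -24, 0) 11 = 0 := by decide +kernel

set_option maxRecDepth 1000000 in
theorem countH_b12 : partB anc0 anc1 anc2 (24, -24, 0) 12 = 40 := by decide +kernel

set_option maxRecDepth 1000000 in
theorem countH_b13 : partB anc0 anc1 anc2 (24, -24, 0) 13 = 16 := by decide +kernel

set_option maxRecDepth 1000000 in
theorem countH_b14 : partB anc0 anc1 anc2 (24, -24, 0) 14 = 16 := by decide +kernel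

set_option maxRecDepth 1000000 in
theorem countH_b15 : partB anc0 anc1 anc2 (24, -24, 0) 15 = 27 := by decide +kernel

theorem countH : fast32 anc0 anc1 anc2 (24, -24, 0) = 100 := by
  rw [fast32_parts, countH_p, countH_b0, countH_b1, countH_b2, countH_b3, countH_b4, countH_b5, countH_b6, countH_b7, countH_b8, countH_b9, countH_b10, countH_b11, countH_b12, countH_b13, countH_b14, countH_b15]

end Cfsg.Agent.Helper4.CO.HS
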