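import Cfsg.Agent.Lib.Helper4.CoOrbitCount
import Cfsg.Agent.Lib.Helper4.Orb.HS.Cfg

set_option autoImplicit false
set_option linter.style.haveILetI false
set_option linter.unusedVariables false
set_option linter.unusedSectionVars false
set_option Elab.async false

/-! A count of vectors with prescribed inner products (kernel computation). -/

namespace Cfsg.Agent.Helper4.CO.HS

open Cfsg Cfsg.Agent.Helper4.CO

set_option maxRecDepth 1000000 in
theorem countJ_p : part1 anc0 anc1 anc2 (-16, 0, 0) = 22 := by decide +kernel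

set_option maxRecDepth 1000000 in
theorem countJ_b0 : partB anc0 anc1 anc2 (-16, 0, 0) 0 = 0 := by decide +kernel

set_option maxRecDepth 1000000 in
theorem countJ_b1 : partB anc0 anc1 anc2 (-16, 0, 0) 1 = 0 := by decide +kernel

set_option maxRecDepth 1000000 in
theorem countJ_b2 : partB anc0 anc1 anc2 (-16, 0, 0) 2 = 0 := by decide +kernel

set_option maxRecDepth 1000000 in
theorem countJ_b3 : partB anc0 anc1 anc2 (-16, 0, 0) 3 = 0 := by decide +kernel

set_option maxRecDepth 1000000 in
theorem countJ_b4 : partB anc0 anc1 anc2 (-16, 0, 0) 4 = 0 := by decide +kernel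

set_option maxRecDepth 1000000 in
theorem countJ_b5 : partB anc0 anc1 anc2 (-16, 0, 0) 5 = 0 := by decide +kernel

set_option maxRecDepth 1000000 in
theorem countJ_b6 : partB anc0 anc1 anc2 (-16, 0, 0) 6 = 0 := by decide +kernel

set_option maxRecDepth 1000000 in
theorem countJ_b7 : partB anc0 anc1 anc2 (-16, 0, 0) 7 = 0 := by decide +kernel

set_option maxRecDepth 1000000 in
theorem countJ_b8 : partB anc0 anc1 anc2 (-16, 0, 0) 8 = 0 := by decide +kernel

set_option maxRecDepth 1000000 in
theorem countJ_b9 : partB anc0 anc1 anc2 (-16, 0, 0) 9 = 0 := by decide +kernel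

set_option maxRecDepth 1000000 in
theorem countJ_b10 : partB anc0 anc1 anc2 (-16, 0, 0) 10 = 0 := by decide +kernel

set_option maxRecDepth 1000000 in
theorem countJ_b11 : partB anc0 anc1 anc2 (-16, 0, 0) 11 = 0 := by decide +kernel

set_option maxRecDepth 1000000 in
theorem countJ_b12 : partB anc0 anc1 anc2 (-16, 0, 0) 12 = 416 := by decide +kernel

set_option maxRecDepth 1000000 in
theorem countJ_b13 : partB anc0 anc1 anc2 (-16, 0, 0) 13 = 256 := by decide +kernel

set_option maxRecDepth 1000000 in
theorem countJ_b14 : partB anc0 anc1 anc2 (-16, 0, 0) 14 = 256 := by decide +kernel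

set_option maxRecDepth 1000000 in
theorem countJ_b15 : partB anc0 anc1 anc2 (-16, 0, 0) 15 = 150 := by decide +kernel

theorem countJ : fast32 anc0 anc1 anc2 (-16, 0, 0) = 1100 := by
  rw [fast32_parts, countJ_p, countJ_b0, countJ_b1, countJ_b2, countJ_b3, countJ_b4, countJ_b5, countJ_b6, countJ_b7, countJ_b8, countJ_b9, countJ_b10, countJ_b11, countJ_b12, countJ_b13, countJ_b14, countJ_b15]

end Cfsg.Agent.Helper4.CO.HS
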