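import Cfsg.Agent.Lib.Helper4.CoOrbitCount
import Cfsg.Agent.Lib.Helper4.Orb.HS.Cfg

set_option autoImplicit false
set_option linter.style.haveILetI false
set_option linter.unusedVariables false
set_option linter.unusedSectionVars false
set_option Elab.async false

/-! A count of vectors with prescribed inner products (kernel computation). -/

namespace Cfsg.Agent.Helper4.CO.HS

open Cfsg Cfsg.Agent.Helper4.CO

set_option maxRecDepth 1000000 in
theorem countK_p : part1 anc0 anc1 anc2 (-16, 16, 0) = 0 := by decide +kernel

set_option maxRecDepth 1000000 in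
theorem countK_b0 : partB anc0 anc1 anc2 (-16, 16, 0) 0 = 1170 := by decide +kernel

set_option maxRecDepth 1000000 in
theorem countK_b1 : partB anc0 anc1 anc2 (-16, 16, 0) 1 = 720 := by decide +kernel

set_option maxRecDepth 1000000 in
theorem countK_b2 : partB anc0 anc1 anc2 (-16, 16, 0) 2 = 720 := by decide +kernel

set_option maxRecDepth 1000000 in
theorem countK_b3 : partB anc0 anc1 anc2 (-16, 16, 0) 3 = 360 := by decide +kernel

set_option maxRecDepth 1000000 in
theorem countK_b4 : partB anc0 anc1 anc2 (-16, 16, 0) 4 = 0 := by decide +kernel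

set_option maxRecDepth 1000000 in
theorem countK_b5 : partB anc0 anc1 anc2 (-16, 16, 0) 5 = 0 := by decide +kernel

set_option maxRecDepth 1000000 in
theorem countK_b6 : partB anc0 anc1 anc2 (-16, 16, 0) 6 = 0 := by decide +kernel

set_option maxRecDepth 1000000 in
theorem countK_b7 : partB anc0 anc1 anc2 (-16, 16, 0) 7 = 0 := by decide +kernel

set_option maxRecDepth 1000000 in
theorem countK_b8 : partB anc0 anc1 anc2 (-16, 16, 0) 8 = 0 := by decide +kernel

set_option maxRecDepth 1000000 in
theorem countK_b9 : partB anc0 anc1 anc2 (-16, 16, 0) 9 = 0 := by decide +kernel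

set_option maxRecDepth 1000000 in
theorem countK_b10 : partB anc0 anc1 anc2 (-16, 16, 0) 10 = 0 := by decide +kernel

set_option maxRecDepth 1000000 in
theorem countK_b11 : partB anc0 anc1 anc2 (-16, 16, 0) 11 = 0 := by decide +kernel

set_option maxRecDepth 1000000 in
theorem countK_b12 : partB anc0 anc1 anc2 (-16, 16, 0) 12 = 600 := by decide +kernel

set_option maxRecDepth 1000000 in
theorem countK_b13 : partB anc0 anc1 anc2 (-16, 16, 0) 13 = 240 := by decide +kernel

set_option maxRecDepth 1000000 in
theorem countK_b14 : partB anc0 anc1 anc2 (-16, 16, 0) 14 = 240 := by decide +kernel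

set_option maxRecDepth 1000000 in
theorem countK_b15 : partB anc0 anc1 anc2 (-16, 16, 0) 15 = 75 := by decide +kernel

theorem countK : fast32 anc0 anc1 anc2 (-16, 16, 0) = 4125 := by
  rw [fast32_parts, countK_p, countK_b0, countK_b1, countK_b2, countK_b3, countK_b4, countK_b5, countK_b6, countK_b7, countK_b8, countK_b9, countK_b10, countK_b11, countK_b12, countK_b13, countK_b14, countK_b15]

end Cfsg.Agent.Helper4.CO.HS
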