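import Cfsg.Agent.Lib.Helper4.CoOrbitCount
import Cfsg.Agent.Lib.Helper4.Orb.HS.Cfg

set_option autoImplicit false
set_option linter.style.haveILetI false
set_option linter.unusedVariables false
set_option linter.unusedSectionVars false
set_option Elab.async false

/-! A count of vectors with prescribed inner products (kernel computation). -/

namespace Cfsg.Agent.Helper4.CO.HS

open Cfsg Cfsg.Agent.Helper4.CO

set_option maxRecDepth 1000000 in
theorem countL_p : part1 anc0 anc1 anc2 (-16, 8, 0) = 0 := by decide +kernel

set_option maxRecDepth 1000000 in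
theorem countL_b0 : partB anc0 anc1 anc2 (-16, 8, 0) 0 = 0 := by decide +kernel

set_option maxRecDepth 1000000 in
theorem countL_b1 : partB anc0 anc1 anc2 (-16, 8, 0) 1 = 0 := by decide +kernel

set_option maxRecDepth 1000000 in
theorem countL_b2 : partB anc0 anc1 anc2 (-16, 8, 0) 2 = 0 := by decide +kernel

set_option maxRecDepth 1000000 in
theorem countL_b3 : partB anc0 anc1 anc2 (-16, 8, 0) 3 = 0 := by decide +kernel

set_option maxRecDepth 1000000 in
theorem countL_b4 : partB anc0 anc1 anc2 (-16, 8, 0) 4 = 560 := by decide +kernel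

set_option maxRecDepth 1000000 in
theorem countL_b5 : partB anc0 anc1 anc2 (-16, 8, 0) 5 = 280 := by decide +kernel

set_option maxRecDepth 1000000 in
theorem countL_b6 : partB anc0 anc1 anc2 (-16, 8, 0) 6 = 280 := by decide +kernel

set_option maxRecDepth 1000000 in
theorem countL_b7 : partB anc0 anc1 anc2 (-16, 8, 0) 7 = 112 := by decide +kernel

set_option maxRecDepth 1000000 in
theorem countL_b8 : partB anc0 anc1 anc2 (-16, 8, 0) 8 = 1840 := by decide +kernel

set_option maxRecDepth 1000000 in
theorem countL_b9 : partB anc0 anc1 anc2 (-16, 8, 0) 9 = 1016 := by decide +kernel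

set_option maxRecDepth 1000000 in
theorem countL_b10 : partB anc0 anc1 anc2 (-16, 8, 0) 10 = 1016 := by decide +kernel

set_option maxRecDepth 1000000 in
theorem countL_b11 : partB anc0 anc1 anc2 (-16, 8, 0) 11 = 496 := by decide +kernel

set_option maxRecDepth 1000000 in
theorem countL_b12 : partB anc0 anc1 anc2 (-16, 8, 0) 12 = 0 := by decide +kernel

set_option maxRecDepth 1000000 in
theorem countL_b13 : partB anc0 anc1 anc2 (-16, 8, 0) 13 = 0 := by decide +kernel

set_option maxRecDepth 1000000 in
theorem countL_b14 : partB anc0 anc1 anc2 (-16, 8, 0) 14 = 0 := by decide +kernel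

set_option maxRecDepth 1000000 in
theorem countL_b15 : partB anc0 anc1 anc2 (-16, 8, 0) 15 = 0 := by decide +kernel

theorem countL : fast32 anc0 anc1 anc2 (-16, 8, 0) = 5600 := by
  rw [fast32_parts, countL_p, countL_b0, countL_b1, countL_b2, countL_b3, countL_b4, countL_b5, countL_b6, countL_b7, countL_b8, countL_b9, countL_b10, countL_b11, countL_b12, countL_b13, countL_b14, countL_b15]

end Cfsg.Agent.Helper4.CO.HS
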