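import Cfsg.Agent.Lib.Helper4.Orb.HS.CfgH

set_option autoImplicit false
set_option linter.style.haveILetI false
set_option linter.unusedVariables false
set_option linter.unusedSectionVars false
set_option Elab.async false

/-! Orbit certificate chunks (generated data). -/

namespace Cfsg.Agent.Helper4.CO.HS

open Cfsg Cfsg.Agent.Helper4.CO

/-- instructions -/
def tapeH0 : List ℕ := splitN 96 9
  0x3020130030120003212000201300301200013021130000032013002130030002300201120002300201112200000220130022300030201300032200020130031120000013013003003001201120002002011200200311140003020130201301114f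

/-- packed keys -/
def numH0 : ℕ :=
  0x8888888888888888888888cca8888a88888aa88a88888aaa88888aaa88888a888a888aaa888888888a888aa8aaa888aa8a88a88888a88888a8a8a8aa8a888aa88888888a888aa8aa888a88888a88888a8a8a8aaaa88aa8888888a888888aa8aa888aa88a88a888a88a8888aa8888a888a88aa8a8a88888aa88a88aa8888a8888a8a888aaaaa88888a88a88888888a8aa99999999959999999999999999999999999999999999599999959999999999999999999999999999999599999999999999999999999959999999999999999599999999999999999959999999999999999999999999999995999999999999999999999999999999599999999999599999999999999999999999999999995999999999999999999999999995999999999999999999999999999959999995999999999999999999999999999999999999999599999999999999999999995999999999999999999999999995999999999959999999999999999999999999999999959999999999999999999999999999959999995999999999999999999999999999599999999999999988a888888a88a88aa888a8aa88aa8a8888a888888888aaaa88aa8888888aaa888a8888aaaa8888a88888aa88a88888aaa88a88888aaa8888a88888aa888888aa88aaa8888888a8aa8a888a8888aa8aa8888888aaa88a8888a8888aa888888aaa88888a8a8aa8888a88a888aa88a8a88888aa888a888a8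8aa888aaa8888888a8aa88888aa88888888a8aa88888aa88aaa888a8aa88a88a8a8888888aaa888aaa8a8a88888888888aa8aa888a88aa888888a8888aa88888888888a8a88a88aaaaaaa88a8888a8888aa888888aa8a88888a888a888aaa8888aa888888a888a888aaa8888aaa8aaa8888888888a8a88a88aa8888aa88888888a888aa8aaa8a8a8888a8a8a88a888888aa888a8a8aa88a8888888a88aaa88888a8888a88a88a8a88aa8888a8aa8a888888a88a88aa88888888aaa888a8888aa8aa88a8a8a888888aa88888a8aa8a8888888888a8a88a88aaaaa8888888a888888aa8aa88aa8aa8aa8a8888a888888888aa88a88a88a88888aa8a8888aaa8a8a88888888888aa888aaa888a888a8888a888a8a88aaa88a8888aa8a88a88a88888aa88a8888a8a8a88a888888aaaa8a8888888a8a8a888a888aaa888a88a888a8a8888a888aa8a8888aaa88888a888a888aa88a8888a888888888aaaa8aa88a888a8a888a888888a8aaaa8a88a888a888a88888a88aa8888a88aa888888a8888aaaa88aaa888aa88888888a888aa8888a8888aa8aa8888888aaa88888a88a888aa8888a8a8aaaa8a8a88888888888aa888aa88888a8888a8a888aa8a88aaaa88888a88a88888888a8aaa8888888a8888aaaa888a88aaa888888aaa88a8888a8888aaa8888a8a888888a8a888a8aa8aa8888888888a8a88a88aaa888a88a888a88a8888aa88aa8a8888888a8aa88888aa88aa8888aa888a8a88888a88a8aa888888a8aa8a8a8a888888aaa88888a88a88888888a8aaaaa888888888a88a8a8a88a8aa8a8aa8a8888a888888888aaa8a8a888a8a888a888888a8aa888a8888888a88aa88a8a8aaa8aa88aa8888888a888888aa8888a8a88888a88a8aa888aa8a888a88aa888888a8888aaa888a88a8a8888888aa88a8aa8a88a888a8888a888a8a88aa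

set_option maxRecDepth 1000000 in
theorem okH0 : chunkOK gens startH tapeH0 (splitN 96 100 numH0) = true := by decide +kernel

end Cfsg.Agent.Helper4.CO.HS
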