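import Cfsg.Agent.Lib.Helper4.CoNodup
import Cfsg.Agent.Lib.Helper4.Orb.HS.HF0

set_option autoImplicit false
set_option linter.style.haveILetI false
set_option linter.unusedVariables false
set_option linter.unusedSectionVars false

/-! Orbit certificate assembly (generated data). -/

namespace Cfsg.Agent.Helper4.CO.HS

open Cfsg Cfsg.Agent.Helper4.CO

/-- the full chunks -/
def tnH : List (List ℕ × ℕ) :=
  []

/-- the chunks -/
def chunksH : List (List ℕ × List ℕ) := mkChunks 2000 tnH tapeH0 100 numH0

theorem chunksH_ok : ∀ ch ∈ chunksH, chunkOK gens startH ch.1 ch.2 = true := by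
  apply mem_mkChunks
  · intro p hp
    simp [tnH] at hp
  · exact okH0

/-- positions in increasing order of the keys -/
def sigmaH : List ℕ := flatW 17 2000
  []
  100 0x2c000500062003e00090001000440019000f001700074003d001a00074001e00620004800a80020002500040011000ac00470025801240090004500278013000a6005400268015c0084005000230014800860055002700128005c0024001980038000e000600160000000be005e0001000ec00380030000600098002e0040001f8009c007000590011800680040001f000d80104006e005b001a800ac0002000d001080174000a000b0016800a400060018002d0005800c20039000a8004c0078000a001780044005000360030000c800c60051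

set_option maxRecDepth 1000000 in
theorem certH : certOK 2000 (tnH.map fun p => p.2) 100 numH0 sigmaH = true := by
  decide +kernel

theorem chunksH_nd : (chunksH.flatMap fun ch => ch.2).Nodup :=
  nodup_mkChunks 2000 tnH tapeH0 100 numH0 sigmaH certH

theorem chunksH_len : (chunksH.flatMap fun ch => ch.2).length = 100 := by
  unfold chunksH
  rw [length_mkChunks]
  decide

end Cfsg.Agent.Helper4.CO.HS
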