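import Cfsg.Agent.Lib.Helper4.CoNodup
import Cfsg.Agent.Lib.Helper4.Orb.HS.IF0

set_option autoImplicit false
set_option linter.style.haveILetI false
set_option linter.unusedVariables false
set_option linter.unusedSectionVars false

/-! Orbit certificate assembly (generated data). -/

namespace Cfsg.Agent.Helper4.CO.HS

open Cfsg Cfsg.Agent.Helper4.CO

/-- the full chunks -/
def tnI : List (List ℕ × ℕ) :=
  []

/-- the chunks -/
def chunksI : List (List ℕ × List ℕ) := mkChunks 2000 tnI tapeI0 352 numI0

theorem chunksI_ok : ∀ ch ∈ chunksI, chunkOK gens startI ch.1 ch.2 = true := by
  apply mem_mkChunks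
  · intro p hp
    simp [tnI] at hp
  · exact okI0

/-- positions in increasing order of the keys -/
def sigmaI : List ℕ := flatW 17 2000
  []
  352 0x41802a402220095007b8040400ee00a3007b0039801fc008800668026c01d600e400430036c021c00dc004980330010a006c006300244015800d700570045801d200ef0069003b40164010b0079002c401e0006e003a0037c019c007f006c80350022600bb004100204015e008e007e80200014200890019800f402aa001200158057000c2004e002580524001c004c0018804b800940134002800008008e00070034004fc025e001300020052800580010009d8047c006a0020009c00494023c015200a1001780262012000a800104008c001f00a380068025a002d00338017c00b80124000e800dc00920023001d800a400d20054001e00558003c015700a00005800a4003900128014c003600420031805340070011d002d80070002e000c00a9804d4001601450002801640290013e0095001000296012800a3000840236015f0008804c8009a01290011004b0027a0032001f0000400120065009b000900030006a00218005400b40064001b0009c02b2002a003900430014e00d0006000320012c0097006100440019e008400598038c020600e800378022c00f80112008a002e0017a00fc00580030c016a00da003f00230017c006b0047803d4021200d30062801e001c4010800708027c021e00c90046801c0011400bf0048001b4013000cb0054001f4014c0092005680434018e00e7004c8030400e200aa006200328013a007b006a803e801e80104006e802ac016800870078801d4023400ee006f002dc0172007300798029001ac0106007000270012800fb0052803e0023200ff0068803e400f401050080002d8022a009e0076004080140010a0051003a802300076003c80394022e00d8004d002f0017401070000004c000cc011c0090805780060004f00aa0056802460126009380174000c000f001400188008a014c00ac004e800ac004400a8800bc02b6015d001300510028600580001804dc00100141002b804cc001a00510030001540068012b00a780538005c013c001f8002802720122000a0006400740048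

set_option maxRecDepth 1000000 in
theorem certI : certOK 2000 (tnI.map fun p => p.2) 352 numI0 sigmaI = true := by
  decide +kernel

theorem chunksI_nd : (chunksI.flatMap fun ch => ch.2).Nodup :=
  nodup_mkChunks 2000 tnI tapeI0 352 numI0 sigmaI certI

theorem chunksI_len : (chunksI.flatMap fun ch => ch.2).length = 352 := by
  unfold chunksI
  rw [length_mkChunks]
  decide

end Cfsg.Agent.Helper4.CO.HS
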