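import Cfsg.Agent.Lib.Helper4.Orb.HS.H
import Cfsg.Agent.Lib.Helper4.Orb.HS.CountH
import Cfsg.Agent.Lib.Helper4.Orb.HS.I
import Cfsg.Agent.Lib.Helper4.Orb.HS.CountI
import Cfsg.Agent.Lib.Helper4.Orb.HS.J
import Cfsg.Agent.Lib.Helper4.Orb.HS.CountJ
import Cfsg.Agent.Lib.Helper4.Orb.HS.K
import Cfsg.Agent.Lib.Helper4.Orb.HS.CountK
import Cfsg.Agent.Lib.Helper4.Orb.HS.L
import Cfsg.Agent.Lib.Helper4.Orb.HS.CountL

set_option autoImplicit false
set_option linter.style.haveILetI false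
set_option linter.unusedVariables false
set_option linter.unusedSectionVars false

/-! Transitivity of a stabiliser on sets of vectors with prescribed inner products. -/

namespace Cfsg.Agent.Helper4.CO.HS

open Cfsg Cfsg.Agent.Helper4.CO

theorem ncardH : (statSet 32 anc0 anc1 anc2 (24, -24, 0)).ncard = (chunksH.flatMap fun ch => ch.2).length := by
  rw [chunksH_len, ncard_statSet anc0 anc1 anc2 anc0_in.1 anc1_in.1 anc2_in.1, countH]

theorem transH : ∀ x ∈ statSet 32 anc0 anc1 anc2 (24, -24, 0), ∀ y ∈ statSet 32 anc0 anc1 anc2 (24, -24, 0),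
    ∃ g : Co0, (∀ a ∈ anchors, FixL g a) ∧ g • x = y :=
  orbit_trans' anchors gens gensOK startH startH_in (by decide) _
    (mem_statSet_mkL 32 anc0 anc1 anc2 (24, -24, 0) anc0_in.1 anc1_in.1 anc2_in.1 startH startH_in
      (by decide) (by decide))
    (statSet_inv 32 anc0 anc1 anc2 (24, -24, 0) anc0_in anc1_in anc2_in) chunksH chunksH_ok chunksH_nd
    ncardH (Set.finite_of_ncard_ne_zero (by rw [ncardH, chunksH_len]; norm_num))

theorem ncardI : (statSet 32 anc0 anc1 anc2 (-16, 24, 0)).ncard = (chunksI.flatMap fun ch => ch.2).length := by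
  rw [chunksI_len, ncard_statSet anc0 anc1 anc2 anc0_in.1 anc1_in.1 anc2_in.1, countI]

theorem transI : ∀ x ∈ statSet 32 anc0 anc1 anc2 (-16, 24, 0), ∀ y ∈ statSet 32 anc0 anc1 anc2 (-16, 24, 0),
    ∃ g : Co0, (∀ a ∈ anchors, FixL g a) ∧ g • x = y :=
  orbit_trans' anchors gens gensOK startI startI_in (by decide) _
    (mem_statSet_mkL 32 anc0 anc1 anc2 (-16, 24, 0) anc0_in.1 anc1_in.1 anc2_in.1 startI startI_in
      (by decide) (by decide))
    (statSet_inv 32 anc0 anc1 anc2 (-16, 24, 0) anc0_in anc1_in anc2_in) chunksI chunksI_ok chunksI_nd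
    ncardI (Set.finite_of_ncard_ne_zero (by rw [ncardI, chunksI_len]; norm_num))

theorem ncardJ : (statSet 32 anc0 anc1 anc2 (-16, 0, 0)).ncard = (chunksJ.flatMap fun ch => ch.2).length := by
  rw [chunksJ_len, ncard_statSet anc0 anc1 anc2 anc0_in.1 anc1_in.1 anc2_in.1, countJ]

theorem transJ : ∀ x ∈ statSet 32 anc0 anc1 anc2 (-16, 0, 0), ∀ y ∈ statSet 32 anc0 anc1 anc2 (-16, 0, 0),
    ∃ g : Co0, (∀ a ∈ anchors, FixL g a) ∧ g • x = y :=
  orbit_trans' anchors gens gensOK startJ startJ_in (by decide) _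
    (mem_statSet_mkL 32 anc0 anc1 anc2 (-16, 0, 0) anc0_in.1 anc1_in.1 anc2_in.1 startJ startJ_in
      (by decide) (by decide))
    (statSet_inv 32 anc0 anc1 anc2 (-16, 0, 0) anc0_in anc1_in anc2_in) chunksJ chunksJ_ok chunksJ_nd
    ncardJ (Set.finite_of_ncard_ne_zero (by rw [ncardJ, chunksJ_len]; norm_num))

theorem ncardK : (statSet 32 anc0 anc1 anc2 (-16, 16, 0)).ncard = (chunksK.flatMap fun ch => ch.2).length := by
  rw [chunksK_len, ncard_statSet anc0 anc1 anc2 anc0_in.1 anc1_in.1 anc2_in.1, countK]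

theorem transK : ∀ x ∈ statSet 32 anc0 anc1 anc2 (-16, 16, 0), ∀ y ∈ statSet 32 anc0 anc1 anc2 (-16, 16, 0),
    ∃ g : Co0, (∀ a ∈ anchors, FixL g a) ∧ g • x = y :=
  orbit_trans' anchors gens gensOK startK startK_in (by decide) _
    (mem_statSet_mkL 32 anc0 anc1 anc2 (-16, 16, 0) anc0_in.1 anc1_in.1 anc2_in.1 startK startK_in
      (by decide) (by decide))
    (statSet_inv 32 anc0 anc1 anc2 (-16, 16, 0) anc0_in anc1_in anc2_in) chunksK chunksK_ok chunksK_nd
    ncardK (Set.finite_of_ncard_ne_zero (by rw [ncardK, chunksK_len]; norm_num))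

theorem ncardL : (statSet 32 anc0 anc1 anc2 (-16, 8, 0)).ncard = (chunksL.flatMap fun ch => ch.2).length := by
  rw [chunksL_len, ncard_statSet anc0 anc1 anc2 anc0_in.1 anc1_in.1 anc2_in.1, countL]

theorem transL : ∀ x ∈ statSet 32 anc0 anc1 anc2 (-16, 8, 0), ∀ y ∈ statSet 32 anc0 anc1 anc2 (-16, 8, 0),
    ∃ g : Co0, (∀ a ∈ anchors, FixL g a) ∧ g • x = y :=
  orbit_trans' anchors gens gensOK startL startL_in (by decide) _
    (mem_statSet_mkL 32 anc0 anc1 anc2 (-16, 8, 0) anc0_in.1 anc1_in.1 anc2_in.1 startL startL_in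
      (by decide) (by decide))
    (statSet_inv 32 anc0 anc1 anc2 (-16, 8, 0) anc0_in anc1_in anc2_in) chunksL chunksL_ok chunksL_nd
    ncardL (Set.finite_of_ncard_ne_zero (by rw [ncardL, chunksL_len]; norm_num))

end Cfsg.Agent.Helper4.CO.HS
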